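import Cfsg.Agent.Lib.CosetEnum.Fi22Out.Data
import Cfsg.Agent.Lib.CosetEnum.Fi22U62.Data

/-! Kernel checks. -/

set_option autoImplicit false
set_option maxRecDepth 100000
set_option Elab.async false

namespace Cfsg.Lib.CosetEnum.Fi22Out

open Fi22U62 (tabP)

theorem cand_ok : scanOK tabP 9 (pointConds tabP 9 (squareWords (frameWords fg aux) swaps prods) (twalk tabP 9 baseWord (pts.getD 0 0))) (elemN cand) 3510 0 = true := by decide +kernel

theorem chain0_ok : scanOK tabP 9 (centConds tabP 9 pts (conjWord baseWord :: squareWords (frameWords fg aux) swaps prods) 1) (elemN cand0) 3510 0 = true := by decide +kernel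

theorem chain1_ok : scanOK tabP 9 (centConds tabP 9 pts ([1] :: conjWord baseWord :: squareWords (frameWords fg aux) swaps prods) 3) (elemN cand1) 3510 0 = true := by decide +kernel

theorem chain2_ok : scanOK tabP 9 (centConds tabP 9 pts ([3] :: [1] :: conjWord baseWord :: squareWords (frameWords fg aux) swaps prods) 5) (elemN cand2) 3510 0 = true := by decide +kernel

theorem chain3_ok : scanOK tabP 9 (centConds tabP 9 pts ([5] :: [3] :: [1] :: conjWord baseWord :: squareWords (frameWords fg aux) swaps prods) 0) (elemN cand3) 3510 0 = true := by decide +kernel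

theorem chain4_ok : scanOK tabP 9 (centConds tabP 9 pts ([0] :: [5] :: [3] :: [1] :: conjWord baseWord :: squareWords (frameWords fg aux) swaps prods) 6) (elemN cand4) 3510 0 = true := by decide +kernel

theorem chain5_ok : scanOK tabP 9 (centConds tabP 9 pts ([6] :: [0] :: [5] :: [3] :: [1] :: conjWord baseWord :: squareWords (frameWords fg aux) swaps prods) 7) (elemN cand5) 3510 0 = true := by decide +kernel

theorem chain6_ok : scanOK tabP 9 (centConds tabP 9 pts ([7] :: [6] :: [0] :: [5] :: [3] :: [1] :: conjWord baseWord :: squareWords (frameWords fg aux) swaps prods) 2) (elemN cand6) 3510 0 = true := by decide +kernel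

theorem chain7_ok : scanOK tabP 9 (centConds tabP 9 pts ([2] :: [7] :: [6] :: [0] :: [5] :: [3] :: [1] :: conjWord baseWord :: squareWords (frameWords fg aux) swaps prods) 4) (elemN cand7) 3510 0 = true := by decide +kernel

theorem chain8_ok : scanOK tabP 9 (centConds tabP 9 pts ([4] :: [2] :: [7] :: [6] :: [0] :: [5] :: [3] :: [1] :: conjWord baseWord :: squareWords (frameWords fg aux) swaps prods) 8) (elemN cand8) 3510 0 = true := by decide +kernel

end Cfsg.Lib.CosetEnum.Fi22Out
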