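import Cfsg.Agent.Lib.CosetEnum.Trans.DefsTwo

/-! Generated certificate. -/

set_option autoImplicit false
set_option maxRecDepth 100000

namespace Cfsg.Lib.CosetEnum.Fi22Out

/-- The points of the generators and one more point. -/
def pts : List Nat :=
  [0, 2, 6, 16, 40, 88, 154, 43, 92, 424]

/-- Commuting generators. -/
def fg : List Nat :=
  [0, 2, 4, 6, 8]

/-- Words moving the first transposition to commuting ones. -/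
def aux : List (List Nat) :=
  [[1, 0, 2, 1, 3, 4, 7, 3, 8, 7],
    [1, 2, 3, 4, 7, 3, 2, 1, 8, 7],
    [1, 2, 3, 4, 5, 6, 7, 3, 2, 1, 4, 5, 8, 7],
    [1, 2, 3, 4, 7, 3, 2, 1, 8, 7, 3, 2, 4, 3],
    [1, 0, 2, 1, 3, 4, 5, 6, 7, 3, 4, 5, 8, 7],
    [1, 2, 3, 4, 5, 6, 7, 3, 2, 1, 4, 3, 2, 5, 4, 3, 8, 7],
    [1, 2, 3, 4, 5, 6, 7, 3, 2, 1, 4, 5, 8, 7, 3, 2, 4, 3],
    [1, 2, 3, 4, 5, 6, 7, 3, 2, 1, 4, 3, 2, 5, 7, 3, 8, 7],
    [1, 2, 3, 4, 5, 6, 7, 3, 2, 1, 4, 3, 5, 4, 7, 3, 8, 7],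
    [1, 0, 2, 1, 3, 4, 5, 6, 7, 3, 4, 5, 8, 7, 3, 2, 4, 3],
    [1, 2, 3, 4, 5, 6, 7, 3, 2, 1, 4, 3, 2, 5, 4, 3, 8, 7, 3, 2, 4, 3],
    [1, 2, 3, 4, 5, 6, 7, 3, 2, 1, 4, 3, 2, 5, 7, 3, 8, 7, 3, 2, 4, 3],
    [1, 2, 3, 4, 5, 6, 7, 3, 2, 1, 4, 3, 5, 4, 7, 3, 8, 7, 3, 2, 4, 3],
    [1, 2, 3, 4, 5, 6, 7, 3, 2, 1, 4, 3, 2, 5, 7, 3, 8, 7, 3, 2, 1, 0, 4, 3, 2, 1],
    [1, 2, 3, 4, 5, 6, 7, 3, 2, 1, 4, 3, 2, 5, 4, 3, 8, 7, 3, 2, 1, 0, 4, 3, 2, 1],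
    [1, 2, 3, 4, 5, 6, 7, 3, 2, 1, 4, 3, 2, 5, 4, 3, 8, 7, 3, 2, 1, 0, 4, 3, 2, 1, 7, 3, 2, 8, 7, 3],
    [1, 2, 3, 4, 5, 6, 7, 3, 2, 1, 4, 3, 2, 5, 4, 3, 8, 7, 3, 2, 1, 0, 4, 3, 2, 1, 7, 3, 4, 8, 7, 3]]

/-- Commuting involutions on the frame. -/
def us : List (List Nat) :=
  [[7, 3, 2, 4, 3, 7],
    [3, 2, 7, 3, 2, 8, 7, 3],
    [3, 4, 7, 3, 4, 8, 7, 3]]

/-- Swapped pairs in the frame. -/
def swaps : List SwapPair :=
  [⟨0, 1, 2⟩, ⟨1, 1, 4⟩, ⟨2, 1, 5⟩, ⟨2, 2, 4⟩, ⟨1, 2, 5⟩, ⟨0, 4, 5⟩, ⟨0, 7, 10⟩, ⟨1, 7, 12⟩, ⟨2, 7, 13⟩, ⟨2, 10, 12⟩, ⟨1, 10, 13⟩, ⟨0, 11, 15⟩, ⟨2, 11, 16⟩, ⟨1, 11, 17⟩, ⟨0, 12, 13⟩, ⟨1, 15, 16⟩, ⟨2, 15, 17⟩, ⟨0, 16, 17⟩, ⟨0, 18, 19⟩, ⟨2, 18, 20⟩, ⟨1, 18, 21⟩, ⟨1, 19, 20⟩, ⟨2, 19, 21⟩, ⟨0, 20, 21⟩]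

/-- Products of pairs. -/
def prods : List (List Nat) :=
  [[3, 9],
    [7, 12],
    [0, 14, 13],
    [3],
    [2],
    [0]]

/-- A word moving the first point to the first base point. -/
def baseWord : List Nat :=
  [1, 2, 3, 7, 8]

/-- Words of the images of the generators under the twist. -/
def sub : List (List Nat) :=
  [[0],
    [1],
    [2],
    [3],
    [4],
    [5],
    [6],
    [3, 4, 5, 2, 3, 4, 1, 2, 3, 7, 6, 5, 4, 3, 2, 1, 0, 1, 2, 3, 4, 5, 6, 7, 3, 2, 1, 4, 3, 2, 5, 4, 3],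
    [8]]

/-- Candidates for the image of the first base point. -/
def cand : List Nat :=
  [9, 12, 14, 15, 20, 21, 25, 34, 281, 317, 354, 355, 400, 401, 452, 508, 1618, 1686, 1745, 1755, 1790, 1811, 1893, 1923, 1948, 1966, 1978, 1979, 2144, 2209, 2225, 2386]

/-- Candidates for the image of a generator. -/
def cand0 : List Nat :=
  [2, 4, 77, 105, 181, 225, 573, 721]

/-- Candidates for the image of a generator. -/
def cand1 : List Nat :=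
  [16, 243]

/-- Candidates for the image of a generator. -/
def cand2 : List Nat :=
  [88, 120]

/-- Candidates for the image of a generator. -/
def cand3 : List Nat :=
  [0]

/-- Candidates for the image of a generator. -/
def cand4 : List Nat :=
  [154]

/-- Candidates for the image of a generator. -/
def cand5 : List Nat :=
  [43]

/-- Candidates for the image of a generator. -/
def cand6 : List Nat :=
  [6]

/-- Candidates for the image of a generator. -/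
def cand7 : List Nat :=
  [40]

/-- Candidates for the image of a generator. -/
def cand8 : List Nat :=
  [92]

/-- The chain of candidates. -/
def chain : List (Nat × List Nat) :=
  [(1, cand0), (3, cand1), (5, cand2), (0, cand3), (6, cand4), (7, cand5), (2, cand6), (4, cand7), (8, cand8)]

end Cfsg.Lib.CosetEnum.Fi22Out
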