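import Cfsg.Agent.Lib.CosetEnum.Fi22Out.Entries
import Cfsg.Agent.Lib.CosetEnum.Fi22Out.Data
import Cfsg.Agent.Lib.CosetEnum.Fi22U62.Data

/-! Kernel checks. -/

set_option autoImplicit false
set_option maxRecDepth 100000
set_option Elab.async false

namespace Cfsg.Lib.CosetEnum.Fi22Out

open Fi22U62 (tabP)

theorem entries2_ok : entries2.all (entryOK tabP 9 3510 (frameWords fg aux) [15, pts.getD 1 0, pts.getD 3 0, pts.getD 5 0]) = true := by decide +kernel

theorem entries3_ok : entries3.all (entryOK tabP 9 3510 (frameWords fg aux) [15, pts.getD 1 0, pts.getD 3 0, pts.getD 5 0]) = true := by decide +kernel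

end Cfsg.Lib.CosetEnum.Fi22Out
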