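import Cfsg.Agent.Lib.CosetEnum.Fi22Out.Twist
import Cfsg.Agent.Lib.CosetEnum.Fi22Out.Data
import Cfsg.Agent.Lib.CosetEnum.Fi22U62.Data

/-! Kernel checks. -/

set_option autoImplicit false
set_option maxRecDepth 100000
set_option Elab.async false

namespace Cfsg.Lib.CosetEnum.Fi22Out

open Fi22U62 (tabP)

theorem frame_ok : frameOK tabP 9 pts fg aux = true := by decide +kernel

theorem norm_ok : normOK tabP 9 3510 us (framePts tabP 9 pts fg aux) = true := by decide +kernel

theorem swaps_ok : swapsOK tabP 9 us (framePts tabP 9 pts fg aux) swaps = true := by decide +kernel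

theorem twist_ok : twistOK tabP twist 9 3510 sub = true := by decide +kernel

theorem fix_ok : fixCount twist 3510 = 360 := by decide +kernel

end Cfsg.Lib.CosetEnum.Fi22Out
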