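import Cfsg.Agent.Lib.CosetEnum.Fi22Out.Nodes
import Cfsg.Agent.Lib.CosetEnum.Fi22Out.Data
import Cfsg.Agent.Lib.CosetEnum.Fi22U62.Data

/-! Kernel checks. -/

set_option autoImplicit false
set_option maxRecDepth 100000
set_option Elab.async false

namespace Cfsg.Lib.CosetEnum.Fi22Out

open Fi22U62 (tabP)

theorem scanN1_ok : scanOK tabP 9 (roleConds tabP 9 pts prevN1 1) (roleMem pts prevN1 repsN1) 3510 0 = true := by decide +kernel

theorem scanN2_ok : scanOK tabP 9 (roleConds tabP 9 pts prevN2 2) (roleMem pts prevN2 repsN2) 3510 0 = true := by decide +kernel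

theorem scanN3_ok : scanOK tabP 9 (roleConds tabP 9 pts prevN3 3) (roleMem pts prevN3 repsN3) 3510 0 = true := by decide +kernel

theorem scanN4_ok : scanOK tabP 9 (roleConds tabP 9 pts prevN4 7) (roleMem pts prevN4 repsN4) 3510 0 = true := by decide +kernel

theorem scanN5_ok : scanOK tabP 9 (roleConds tabP 9 pts prevN5 8) (roleMem pts prevN5 repsN5) 3510 0 = true := by decide +kernel

theorem scanN6_ok : scanOK tabP 9 (roleConds tabP 9 pts prevN6 4) (roleMem pts prevN6 repsN6) 3510 0 = true := by decide +kernel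

theorem scanN7_ok : scanOK tabP 9 (roleConds tabP 9 pts prevN7 5) (roleMem pts prevN7 repsN7) 3510 0 = true := by decide +kernel

theorem scanN8_ok : scanOK tabP 9 (roleConds tabP 9 pts prevN8 6) (roleMem pts prevN8 repsN8) 3510 0 = true := by decide +kernel

theorem scanM_ok : scanOK tabP 9 (roleConds tabP 9 pts prevM 8) (roleMem pts prevM repsM) 3510 0 = true := by decide +kernel

theorem leaf5_ok : scanOK tabP 9 (roleConds tabP 9 pts [(0, 0), (1, 1), (2, 2), (3, 3), (7, 4), (8, 5)] 5) (elemN [92]) 3510 0 = true := by decide +kernel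

theorem leaf6_ok : scanOK tabP 9 (roleConds tabP 9 pts [(0, 0), (1, 1), (2, 2), (3, 3), (7, 4), (8, 5)] 6) (elemN [92]) 3510 0 = true := by decide +kernel

end Cfsg.Lib.CosetEnum.Fi22Out
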