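import Cfsg.Agent.Lib.CosetEnum.Fi22Out.OrbitPart
import Cfsg.Agent.Lib.CosetEnum.Fi22Out.ScanPart
import Cfsg.Agent.Lib.CosetEnum.Fi22Out.ChainPart
import Cfsg.Agent.Lib.CosetEnum.Fi22Out.MiscPart
import Cfsg.Agent.Lib.CosetEnum.Fi22Out.EntryPart0
import Cfsg.Agent.Lib.CosetEnum.Fi22Out.EntryPart1
import Cfsg.Agent.Lib.CosetEnum.Fi22Out.EntryPart2
import Cfsg.Agent.Lib.CosetEnum.Fi22Out.EntryPart3

/-! Kernel checks. -/

set_option autoImplicit false
set_option maxRecDepth 100000
set_option Elab.async false

namespace Cfsg.Lib.CosetEnum.Fi22Out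

open Fi22U62 (tabP)

/-- The points used for the codes. -/
def codePts : List Nat :=
  [15, pts.getD 1 0, pts.getD 3 0, pts.getD 5 0]

/-- All products of commuting transpositions. -/
def entries : List Entry :=
  entries0 ++ entries1 ++ entries2 ++ entries3 ++ entries4 ++ entries5 ++ entries6 ++ entries7

theorem entries_inc : incB (entries.map Entry.code) = true := by decide +kernel

theorem entries_len : entries.length = cand.length * (chain.map fun e => e.2.length).prod := by decide +kernel

theorem codePts_lt : codePts.all (fun p => Nat.blt p 3510) = true := by decide +kernel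

theorem entries_ok : entries.all (entryOK tabP 9 3510 (frameWords fg aux) codePts) = true := by
  simp only [entries, codePts, List.all_append, entries0_ok, entries1_ok, entries2_ok, entries3_ok, entries4_ok, entries5_ok, entries6_ok, entries7_ok, Bool.and_self]

end Cfsg.Lib.CosetEnum.Fi22Out
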