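import Cfsg.Agent.Lib.CosetEnum.Fi22Out.TabN1_1
import Cfsg.Agent.Lib.CosetEnum.Fi22Out.TabN2_2
import Cfsg.Agent.Lib.CosetEnum.Fi22Out.TabN3_3
import Cfsg.Agent.Lib.CosetEnum.Fi22Out.TabN4_7
import Cfsg.Agent.Lib.CosetEnum.Fi22Out.TabN4_4
import Cfsg.Agent.Lib.CosetEnum.Fi22Out.TabN4_9
import Cfsg.Agent.Lib.CosetEnum.Fi22Out.TabN5_8
import Cfsg.Agent.Lib.CosetEnum.Fi22Out.TabN6_4
import Cfsg.Agent.Lib.CosetEnum.Fi22Out.TabN7_5
import Cfsg.Agent.Lib.CosetEnum.Fi22Out.TabN8_6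
import Cfsg.Agent.Lib.CosetEnum.Fi22Out.TabM_5

/-! Generated certificate. -/

set_option autoImplicit false
set_option maxRecDepth 100000

namespace Cfsg.Lib.CosetEnum.Fi22Out

/-- Allowed images. -/
def repN1_1 : Rep :=
  { g := 1
    U := [[2],
    [3],
    [4],
    [5],
    [6],
    [7],
    [8],
    [1, 2, 3, 7, 4, 3, 2, 1, 0, 1, 2, 3, 4, 7, 3, 2, 1]]
    O := orbN1_1
    Pos := posN1_1
    c := 2816 }

/-- Allowed images. -/
def repN2_2 : Rep :=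
  { g := 2
    U := [[3],
    [5],
    [6],
    [7],
    [8],
    [2, 3, 4, 1, 2, 3, 7, 5, 4, 3, 2, 1, 0, 1, 2, 3, 4, 5, 7, 3, 2, 1, 4, 3, 2]]
    O := orbN2_2
    Pos := posN2_2
    c := 567 }

/-- Allowed images. -/
def repN3_3 : Rep :=
  { g := 3
    U := [[4],
    [5],
    [6],
    [7],
    [8],
    [3, 7, 2, 3, 4, 1, 2, 3, 7, 5, 4, 3, 2, 1, 0, 1, 2, 3, 4, 5, 7, 3, 2, 1, 4, 3, 2, 7, 3]]
    O := orbN3_3
    Pos := posN3_3
    c := 96 }

/-- Allowed images. -/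
def repN4_7 : Rep :=
  { g := 7
    U := [[5],
    [6],
    [8],
    [4, 3, 7, 2, 3, 4, 1, 2, 3, 7, 5, 4, 3, 2, 1, 0, 1, 2, 3, 4, 5, 7, 3, 2, 1, 4, 3, 2, 7, 3, 4]]
    O := orbN4_7
    Pos := posN4_7
    c := 5 }

/-- Allowed images. -/
def repN4_4 : Rep :=
  { g := 4
    U := [[5],
    [6],
    [8],
    [4, 3, 7, 2, 3, 4, 1, 2, 3, 7, 5, 4, 3, 2, 1, 0, 1, 2, 3, 4, 5, 7, 3, 2, 1, 4, 3, 2, 7, 3, 4]]
    O := orbN4_4
    Pos := posN4_4
    c := 10 }

/-- Allowed images. -/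
def repN4_9 : Rep :=
  { g := 9
    U := [[5],
    [6],
    [8],
    [4, 3, 7, 2, 3, 4, 1, 2, 3, 7, 5, 4, 3, 2, 1, 0, 1, 2, 3, 4, 5, 7, 3, 2, 1, 4, 3, 2, 7, 3, 4]]
    O := orbN4_9
    Pos := posN4_9
    c := 5 }

/-- Allowed images. -/
def repN5_8 : Rep :=
  { g := 8
    U := [[5],
    [6],
    [4, 3, 7, 2, 3, 4, 1, 2, 3, 7, 5, 4, 3, 2, 1, 0, 1, 2, 3, 4, 5, 7, 3, 2, 1, 4, 3, 2, 7, 3, 4]]
    O := orbN5_8
    Pos := posN5_8
    c := 4 }

/-- Allowed images. -/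
def repN6_4 : Rep :=
  { g := 4
    U := [[5],
    [6]]
    O := orbN6_4
    Pos := posN6_4
    c := 3 }

/-- Allowed images. -/
def repN7_5 : Rep :=
  { g := 5
    U := [[6]]
    O := orbN7_5
    Pos := posN7_5
    c := 2 }

/-- Allowed images. -/
def repN8_6 : Rep :=
  { g := 6
    U := []
    O := orbN8_6
    Pos := posN8_6
    c := 1 }

/-- Allowed images. -/
def repM_5 : Rep :=
  { g := 5
    U := [[6],
    [8],
    [7, 3, 4, 2, 3, 7, 8, 1, 2, 3, 7, 4, 3, 2, 1, 0, 1, 2, 3, 4, 7, 3, 2, 1, 8, 7, 3, 2, 4, 3, 7]]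
    O := orbM_5
    Pos := posM_5
    c := 6 }

/-- The earlier roles. -/
def prevN1 : List (Nat × Nat) :=
  [(0, 0)]

/-- The orbits of allowed images. -/
def repsN1 : List Rep :=
  [repN1_1]

/-- The earlier roles. -/
def prevN2 : List (Nat × Nat) :=
  [(0, 0), (1, 1)]

/-- The orbits of allowed images. -/
def repsN2 : List Rep :=
  [repN2_2]

/-- The earlier roles. -/
def prevN3 : List (Nat × Nat) :=
  [(0, 0), (1, 1), (2, 2)]

/-- The orbits of allowed images. -/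
def repsN3 : List Rep :=
  [repN3_3]

/-- The earlier roles. -/
def prevN4 : List (Nat × Nat) :=
  [(0, 0), (1, 1), (2, 2), (3, 3)]

/-- The orbits of allowed images. -/
def repsN4 : List Rep :=
  [repN4_7, repN4_4, repN4_9]

/-- The earlier roles. -/
def prevN5 : List (Nat × Nat) :=
  [(0, 0), (1, 1), (2, 2), (3, 3), (7, 7)]

/-- The orbits of allowed images. -/
def repsN5 : List Rep :=
  [repN5_8]

/-- The earlier roles. -/
def prevN6 : List (Nat × Nat) :=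
  [(0, 0), (1, 1), (2, 2), (3, 3), (7, 7), (8, 8)]

/-- The orbits of allowed images. -/
def repsN6 : List Rep :=
  [repN6_4]

/-- The earlier roles. -/
def prevN7 : List (Nat × Nat) :=
  [(0, 0), (1, 1), (2, 2), (3, 3), (7, 7), (8, 8), (4, 4)]

/-- The orbits of allowed images. -/
def repsN7 : List Rep :=
  [repN7_5]

/-- The earlier roles. -/
def prevN8 : List (Nat × Nat) :=
  [(0, 0), (1, 1), (2, 2), (3, 3), (7, 7), (8, 8), (4, 4), (5, 5)]

/-- The orbits of allowed images. -/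
def repsN8 : List Rep :=
  [repN8_6]

/-- The earlier roles. -/
def prevM : List (Nat × Nat) :=
  [(0, 0), (1, 1), (2, 2), (3, 3), (7, 4)]

/-- The orbits of allowed images. -/
def repsM : List Rep :=
  [repM_5]

end Cfsg.Lib.CosetEnum.Fi22Out
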